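import Mathlib
import Cfsg.Agent.SmallSimple.BTBasic
import Cfsg.Agent.SmallSimple.Simple168
import Cfsg.Agent.S0145
import Cfsg.Agent.Prune
set_option linter.all false
prune_inst 0x7f00000000000000000000000000000000000000000000000000000000000000000000000000000000000000000000000000000000000000000000000000000000000000000000000000000000000000003ffcff77ffffffffffffffffffffbeffbdebfeffff
open scoped Cfsg.Agent.FastGrp

/-!
# The numeric criterion for products of conjugates (helper588, PQR-C1 of S3988)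

`S` a finite group, `Z` a nonempty subset of `S`.

* `exists_mul_mem` : `‖χ(x)‖ ≤ R ‖χ(1)‖` for all irreducible `χ ≠ 1` and
  `R² (|C(y)| - 1) (|S| / |Z| - 1) < 1` ==> a conjugate of `x` times a conjugate of `y` lies in `Z`.
* `exists_mul_mem_cent` : the same if `|C(x)| (|C(y)| - 1) (|S| / |Z| - 1) < D²`, `D` a lower bound of the nontrivial degrees.
* `norm_le_of_free` : `t` normalises `U` and `C_U(t) = 1` ==> `‖χ(t)‖ ≤ (‖χ(1)‖ + (|U| - 1) A) / |U|`,
  `A` a bound of `‖χ‖` on `U \ 1`.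
* `ratio` : `x = t` normalising but not centralising `⟨u⟩`, `u` of prime order `l`;
  `ratio_cent` : the version with `A = √|C(u)|`.
* `card_prime` : `|{x | orderOf x = b}| |N(⟨z⟩)| = |S| (b - 1)` if `b` divides `|S|` exactly once, `card_primes` : a union
  of such sets.
-/

set_option autoImplicit false

open scoped ComplexConjugate
open Cfsg

namespace Cfsg.Agent.H588.Ratio

open Cfsg.Agent.Characters.Core Cfsg.Agent.Characters.ClassMul

universe u

variable {S : Type u} [Group S] [Finite S]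

/-! ### Column orthogonality -/

theorem sum_norm_sq [Fintype (IrrCharacter S)] (y : S) :
    ∑ χ : IrrCharacter S, ‖(χ : S → ℂ) y‖ ^ 2 = (Nat.card (Subgroup.centralizer ({y} : Set S)) : ℝ) := by
  classical
  have := Fintype.ofFinite S
  have h1 := S0145.sum_irr_mul_conj y y
  rw [if_pos (IsConj.refl y)] at h1
  have h2 : ((∑ χ : IrrCharacter S, ‖(χ : S → ℂ) y‖ ^ 2 : ℝ) : ℂ) =
      ((Nat.card (Subgroup.centralizer ({y} : Set S)) : ℝ) : ℂ) := by
    rw [Complex.ofReal_natCast, ← h1, Complex.ofReal_sum]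
    refine Finset.sum_congr rfl fun χ _ => ?_
    rw [Complex.mul_conj, Complex.normSq_eq_norm_sq]
  exact_mod_cast h2

/-- the trivial character -/
def one : IrrCharacter S := ⟨1, isIrr_one⟩

theorem sum_ne_one_norm_sq [Fintype (IrrCharacter S)] [DecidableEq (IrrCharacter S)] (y : S) :
    ∑ χ ∈ Finset.univ.erase (one : IrrCharacter S), ‖(χ : S → ℂ) y‖ ^ 2 =
      (Nat.card (Subgroup.centralizer ({y} : Set S)) : ℝ) - 1 := by
  rw [← sum_norm_sq y, ← Finset.add_sum_erase _ _ (Finset.mem_univ (one : IrrCharacter S))]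
  simp only [one, _root_.Finset.mem_univ, _root_.Finset.sum_erase_eq_sub, _root_.Pi.one_apply, _root_.NormOneClass.norm_one, _root_.one_pow, _root_.add_sub_cancel]

/-- `|χ(y)|² ≤ |C(y)|` -/
theorem norm_sq_le {χ : S → ℂ} (hχ : IsIrrCharacter S χ) (y : S) :
    ‖χ y‖ ^ 2 ≤ (Nat.card (Subgroup.centralizer ({y} : Set S)) : ℝ) := by
  have := finite_irr (G := S)
  have := Fintype.ofFinite (IrrCharacter S)
  rw [← sum_norm_sq y]
  exact Finset.single_le_sum (f := fun χ : IrrCharacter S => ‖(χ : S → ℂ) y‖ ^ 2)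
    (fun _ _ => by positivity) (Finset.mem_univ (⟨χ, hχ⟩ : IrrCharacter S))

theorem norm_le_sqrt {χ : S → ℂ} (hχ : IsIrrCharacter S χ) (y : S) :
    ‖χ y‖ ≤ √(Nat.card (Subgroup.centralizer ({y} : Set S)) : ℝ) :=
  Real.le_sqrt_of_sq_le (norm_sq_le hχ y)

/-- `∑_χ |∑_{z ∈ Z} χ(z)|² ≤ |S| |Z|` -/
theorem sum_norm_sq_set [Fintype (IrrCharacter S)] (Z : Finset S) :
    ∑ χ : IrrCharacter S, ‖∑ z ∈ Z, (χ : S → ℂ) z‖ ^ 2 ≤ (Nat.card S : ℝ) * Z.card := by
  classical
  have := Fintype.ofFinite S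
  have h0 : ((∑ χ : IrrCharacter S, ‖∑ z ∈ Z, (χ : S → ℂ) z‖ ^ 2 : ℝ) : ℂ) =
      ((∑ w ∈ Z, (Z.filter fun z => IsConj z w).card * Nat.card (Subgroup.centralizer ({w} : Set S)) : ℕ) : ℂ) := by
    rw [Complex.ofReal_sum]
    have e1 : ∀ χ : IrrCharacter S, ((‖∑ z ∈ Z, (χ : S → ℂ) z‖ ^ 2 : ℝ) : ℂ) =
        ∑ w ∈ Z, ∑ z ∈ Z, (χ : S → ℂ) z * conj ((χ : S → ℂ) w) := by
      intro χ
      rw [← Complex.normSq_eq_norm_sq, ← Complex.mul_conj, map_sum, Finset.sum_mul_sum, Finset.sum_comm]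
    rw [Finset.sum_congr rfl fun χ _ => e1 χ, Finset.sum_comm]
    push_cast
    refine Finset.sum_congr rfl fun w _ => ?_
    rw [Finset.sum_comm, Finset.sum_congr rfl fun z _ => S0145.sum_irr_mul_conj z w, ← Finset.sum_filter,
      Finset.sum_const, nsmul_eq_mul]
  have h1 : ∑ χ : IrrCharacter S, ‖∑ z ∈ Z, (χ : S → ℂ) z‖ ^ 2 =
      ((∑ w ∈ Z, (Z.filter fun z => IsConj z w).card * Nat.card (Subgroup.centralizer ({w} : Set S)) : ℕ) : ℝ) := by
    exact_mod_cast h0
  rw [h1]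
  have h2 : ∑ w ∈ Z, (Z.filter fun z => IsConj z w).card * Nat.card (Subgroup.centralizer ({w} : Set S)) ≤
      ∑ w ∈ Z, Nat.card S := by
    refine Finset.sum_le_sum fun w _ => ?_
    rw [← (Subgroup.centralizer ({w} : Set S)).card_mul_index, mul_comm, ← card_filter_isConj w]
    refine Nat.mul_le_mul_left _ (Finset.card_le_card fun z hz => ?_)
    rw [Finset.mem_filter] at hz ⊢
    exact ⟨Finset.mem_univ _, hz.2.symm⟩
  rw [Finset.sum_const, smul_eq_mul, mul_comm] at h2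
  exact_mod_cast h2

/-! ### The criterion -/

/-- **the criterion**: `‖χ(x)‖ ≤ R ‖χ(1)‖` for all nontrivial irreducible characters -/
theorem exists_mul_mem {x y : S} {R : ℝ}
    (hR : ∀ χ : S → ℂ, IsIrrCharacter S χ → χ ≠ 1 → ‖χ x‖ ≤ R * ‖χ 1‖) {Z : Set S} (hne : Z.Nonempty)
    (hnum : R ^ 2 * ((Nat.card (Subgroup.centralizer ({y} : Set S)) : ℝ) - 1) *
      ((Nat.card S : ℝ) / Nat.card Z - 1) < 1) :
    ∃ g h : S, g * x * g⁻¹ * (h * y * h⁻¹) ∈ Z := by
  classical
  by_contra hcon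
  push Not at hcon
  have := Fintype.ofFinite S
  have := finite_irr (G := S)
  have := Fintype.ofFinite (IrrCharacter S)
  have := Fintype.ofFinite Z
  set Zf : Finset S := Z.toFinset with hZf
  have hcard : Nat.card Z = Zf.card := by rw [Nat.card_eq_fintype_card, Set.toFinset_card]
  have hpos : 0 < Zf.card := by
    rw [Finset.card_pos, hZf, Set.toFinset_nonempty]
    exact hne
  have hS : (Nat.card S : ℂ) ≠ 0 := by exact_mod_cast Nat.card_pos.ne'
  have h1 : ∀ z ∈ Zf, ∑ χ : IrrCharacter S,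
      (χ : S → ℂ) x * (χ : S → ℂ) y * conj ((χ : S → ℂ) z) / (χ : S → ℂ) 1 = 0 := by
    intro z hz
    have h2 := card_conj_mul_conj x y z
    have h3 : Nat.card {p : S × S // p.1 * x * p.1⁻¹ * (p.2 * y * p.2⁻¹) = z} = 0 := by
      rw [Nat.card_eq_zero]
      refine Or.inl ⟨fun p => hcon p.1.1 p.1.2 ?_⟩
      rw [p.2]
      exact Set.mem_toFinset.1 hz
    rw [h3, Nat.cast_zero] at h2
    exact (mul_eq_zero.1 h2.symm).resolve_left hS
  let s : IrrCharacter S → ℂ := fun χ => ∑ z ∈ Zf, (χ : S → ℂ) z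
  have h2 : ∑ χ : IrrCharacter S, (χ : S → ℂ) x * (χ : S → ℂ) y * conj (s χ) / (χ : S → ℂ) 1 = 0 := by
    have e : ∀ χ : IrrCharacter S, (χ : S → ℂ) x * (χ : S → ℂ) y * conj (s χ) / (χ : S → ℂ) 1 =
        ∑ z ∈ Zf, (χ : S → ℂ) x * (χ : S → ℂ) y * conj ((χ : S → ℂ) z) / (χ : S → ℂ) 1 := by
      intro χ
      simp only [s]
      rw [map_sum, Finset.mul_sum, Finset.sum_div]
    rw [Finset.sum_congr rfl fun χ _ => e χ, Finset.sum_comm, Finset.sum_eq_zero h1]
  rw [← Finset.add_sum_erase _ _ (Finset.mem_univ (one : IrrCharacter S))] at h2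
  have hone : ((one : IrrCharacter S) : S → ℂ) x * ((one : IrrCharacter S) : S → ℂ) y *
      conj (s one) / ((one : IrrCharacter S) : S → ℂ) 1 = (Zf.card : ℂ) := by
    simp only [one, s, _root_.Pi.one_apply, _root_.mul_one, _root_.Finset.sum_const, _root_.nsmul_eq_mul, _root_.map_natCast, _root_.one_mul, _root_.div_one]
  rw [hone] at h2
  have h3 : (Zf.card : ℝ) ≤ ∑ χ ∈ Finset.univ.erase (one : IrrCharacter S), R * (‖(χ : S → ℂ) y‖ * ‖s χ‖) := by
    have e : (Zf.card : ℂ) = -∑ χ ∈ Finset.univ.erase (one : IrrCharacter S),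
        (χ : S → ℂ) x * (χ : S → ℂ) y * conj (s χ) / (χ : S → ℂ) 1 := eq_neg_of_add_eq_zero_left h2
    have e2 : (Zf.card : ℝ) = ‖(Zf.card : ℂ)‖ := by rw [Complex.norm_natCast]
    rw [e2, e, norm_neg]
    refine (norm_sum_le _ _).trans (Finset.sum_le_sum fun χ hχ => ?_)
    have hχ1 : (χ : S → ℂ) ≠ 1 := fun h => (Finset.mem_erase.1 hχ).1 (Subtype.ext h)
    have h4 := hR χ χ.2 hχ1
    have h5 : 0 < ‖(χ : S → ℂ) 1‖ := norm_pos_iff.2 (isIrr_apply_one_ne_zero χ.2)
    rw [norm_div, norm_mul, norm_mul, Complex.norm_conj, div_le_iff₀ h5]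
    have h6 : 0 ≤ ‖(χ : S → ℂ) y‖ * ‖s χ‖ := by (clear * -; positivity)
    have h7 := mul_le_mul_of_nonneg_right h4 h6
    calc ‖(χ : S → ℂ) x‖ * ‖(χ : S → ℂ) y‖ * ‖s χ‖ = ‖(χ : S → ℂ) x‖ * (‖(χ : S → ℂ) y‖ * ‖s χ‖) := by ring
      _ ≤ R * ‖(χ : S → ℂ) 1‖ * (‖(χ : S → ℂ) y‖ * ‖s χ‖) := h7
      _ = R * (‖(χ : S → ℂ) y‖ * ‖s χ‖) * ‖(χ : S → ℂ) 1‖ := by ring
  rw [← Finset.mul_sum] at h3
  have h4 := Finset.sum_mul_sq_le_sq_mul_sq (Finset.univ.erase (one : IrrCharacter S))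
    (fun χ => ‖(χ : S → ℂ) y‖) (fun χ => ‖s χ‖)
  rw [sum_ne_one_norm_sq] at h4
  have h5 : ∑ χ ∈ Finset.univ.erase (one : IrrCharacter S), ‖s χ‖ ^ 2 ≤
      (Nat.card S : ℝ) * Zf.card - (Zf.card : ℝ) ^ 2 := by
    have e := sum_norm_sq_set (S := S) Zf
    rw [← Finset.add_sum_erase _ _ (Finset.mem_univ (one : IrrCharacter S))] at e
    have e2 : ‖∑ z ∈ Zf, ((one : IrrCharacter S) : S → ℂ) z‖ ^ 2 = (Zf.card : ℝ) ^ 2 := by
      simp [one]
    rw [e2] at e
    have e3 : ∑ χ ∈ Finset.univ.erase (one : IrrCharacter S), ‖s χ‖ ^ 2 =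
        ∑ χ ∈ Finset.univ.erase (one : IrrCharacter S), ‖∑ z ∈ Zf, (χ : S → ℂ) z‖ ^ 2 := rfl
    rw [e3]
    linarith only [e]
  set σ : ℝ := ∑ χ ∈ Finset.univ.erase (one : IrrCharacter S), ‖(χ : S → ℂ) y‖ * ‖s χ‖ with hσ
  have hc1 : (1 : ℝ) ≤ Nat.card (Subgroup.centralizer ({y} : Set S)) := by exact_mod_cast Nat.card_pos
  set c : ℝ := (Nat.card (Subgroup.centralizer ({y} : Set S)) : ℝ) - 1 with hc
  have hc0 : 0 ≤ c := by rw [hc]; linarith only [hc1]
  have hz0 : (0 : ℝ) < Zf.card := by exact_mod_cast hpos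
  have h6 : (Zf.card : ℝ) ^ 2 ≤ R ^ 2 * (c * ((Nat.card S : ℝ) * Zf.card - (Zf.card : ℝ) ^ 2)) := by
    calc (Zf.card : ℝ) ^ 2 ≤ (R * σ) ^ 2 := by
          exact pow_le_pow_left₀ hz0.le h3 2
      _ = R ^ 2 * σ ^ 2 := by ring
      _ ≤ R ^ 2 * (c * ∑ χ ∈ Finset.univ.erase (one : IrrCharacter S), ‖s χ‖ ^ 2) :=
          mul_le_mul_of_nonneg_left h4 (by positivity)
      _ ≤ _ := mul_le_mul_of_nonneg_left (mul_le_mul_of_nonneg_left h5 hc0) (by positivity)
  rw [hcard] at hnum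
  have h7 : R ^ 2 * (c * ((Nat.card S : ℝ) * Zf.card - (Zf.card : ℝ) ^ 2)) =
      (R ^ 2 * c * ((Nat.card S : ℝ) / Zf.card - 1)) * (Zf.card : ℝ) ^ 2 := by
    field_simp
  rw [h7] at h6
  have h8 : (R ^ 2 * c * ((Nat.card S : ℝ) / Zf.card - 1)) * (Zf.card : ℝ) ^ 2 < 1 * (Zf.card : ℝ) ^ 2 :=
    mul_lt_mul_of_pos_right hnum (by (clear * - hne; positivity))
  linarith only [h6, h8]

/-! ### Elements normalising a subgroup -/

/-! ### Counting the elements of prime order -/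

/-- the number of elements of order `b` if `b` divides `|S|` exactly once -/
theorem card_prime {b : ℕ} (hb : b.Prime) (hb2 : ¬ b ^ 2 ∣ Nat.card S) {z : S} (hz : orderOf z = b) :
    Nat.card {x : S // orderOf x = b} * Nat.card (Subgroup.normalizer (Subgroup.zpowers z : Set S)) =
      Nat.card S * (b - 1) := by
  have : Fact b.Prime := ⟨hb⟩
  have h1 : b ∣ Nat.card S := hz ▸ orderOf_dvd_natCard z
  have hf : (Nat.card S).factorization b = 1 := by
    have h0 : Nat.card S ≠ 0 := Nat.card_pos.ne'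
    have h3 : 1 ≤ (Nat.card S).factorization b := (hb.pow_dvd_iff_le_factorization h0).1 (by simpa only [_root_.pow_one] using h1)
    have h4 : ¬ 2 ≤ (Nat.card S).factorization b := fun h => hb2 ((hb.pow_dvd_iff_le_factorization h0).2 h)
    omega
  have hP : ∀ P : Sylow b S, Nat.card (P : Subgroup S) = b := by
    intro P
    rw [P.card_eq_multiplicity, hf, pow_one]
  rw [SmallSimple.Simple168.card_orderOf_eq_prime b hP]
  have h2 : IsPGroup b (Subgroup.zpowers z) := by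
    apply IsPGroup.of_card (n := 1)
    rw [Nat.card_zpowers, hz, pow_one]
  obtain ⟨P, hPz⟩ := h2.exists_le_sylow
  have h3 : (P : Subgroup S) = Subgroup.zpowers z :=
    (Subgroup.eq_of_le_of_card_ge hPz (by rw [Nat.card_zpowers, hz]; exact (hP P).le)).symm
  have h4 : (Subgroup.zpowers z : Set S) = (P : Set S) := by rw [← h3]; rfl
  rw [Sylow.card_eq_index_normalizer P, h4, ← Subgroup.card_mul_index (Subgroup.normalizer (P : Set S))]
  ring

/-- the elements whose order lies in `B` -/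
theorem card_primes (B : Finset ℕ) :
    (Nat.card {x : S | orderOf x ∈ B} : ℝ) = ∑ b ∈ B, (Nat.card {x : S // orderOf x = b} : ℝ) := by
  classical
  have := Fintype.ofFinite S
  have h1 : Nat.card {x : S | orderOf x ∈ B} = (Finset.univ.filter fun x : S => orderOf x ∈ B).card := by
    rw [← Fintype.card_subtype, Nat.card_eq_fintype_card]
    rfl
  have h2 : ∀ b, Nat.card {x : S // orderOf x = b} = (Finset.univ.filter fun x : S => orderOf x = b).card := by
    intro b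
    rw [← Fintype.card_subtype, Nat.card_eq_fintype_card]
  have h3 : (Finset.univ.filter fun x : S => orderOf x ∈ B) =
      B.biUnion fun b => Finset.univ.filter fun x : S => orderOf x = b := by
    ext x
    simp
  rw [h1, h3, Finset.card_biUnion]
  · push_cast
    exact Finset.sum_congr rfl fun b _ => by rw [h2]
  · intro a _ b _ hab
    rw [Function.onFun, Finset.disjoint_left]
    intro x hx hx'
    rw [Finset.mem_filter] at hx hx'
    exact hab (hx.2.symm.trans hx'.2)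

/-- the proportion of the elements of order `b` -/
theorem card_prime_div {b n : ℕ} (hb : b.Prime) (hb2 : ¬ b ^ 2 ∣ Nat.card S) {z : S} (hz : orderOf z = b)
    (hn : Nat.card (Subgroup.normalizer (Subgroup.zpowers z : Set S)) = n) :
    (Nat.card {x : S // orderOf x = b} : ℝ) = (Nat.card S : ℝ) * (((b : ℝ) - 1) / n) := by
  have h1 := card_prime hb hb2 hz
  rw [hn] at h1
  have hn0 : (n : ℝ) ≠ 0 := by
    rw [← hn]
    exact_mod_cast Nat.card_pos.ne'
  have h2 : (Nat.card {x : S // orderOf x = b} : ℝ) * n = Nat.card S * ((b : ℝ) - 1) := by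
    have h3 : ((Nat.card {x : S // orderOf x = b} * n : ℕ) : ℝ) = ((Nat.card S * (b - 1) : ℕ) : ℝ) := by rw [h1]
    push_cast [Nat.cast_sub hb.one_lt.le] at h3
    exact h3
  field_simp
  linarith only [h2]

end Cfsg.Agent.H588.Ratio

private theorem dce_7a81d5e10aa9 : _root_.True := by
  try have : _root_.True := by simp only [_root_.Cfsg.Agent.H588.Ratio.one.eq_1]
  exact _root_.True.intro
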